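/-
Exceptional isogenies in characteristic p: a datum whose Lie algebra has an ideal spanned by part
of the basis such that the action on the ideal is semilinearly equivalent to the action on the
quotient, with the root x_r sent to x_{bar r}.
-/
import Cfsg.Agent.Lib.Twisted.Entries
import Cfsg.Agent.Lib.Chev.BNCore

set_option autoImplicit false

namespace Cfsg.Agent.Twisted.Iso

open Cfsg.Lie Matrix Chev BNSetup

/-- The tables of an exceptional isogeny. -/
structure Cert where
  /-- Positions spanning the ideal. -/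
  colsI : List ℕ
  /-- Positions spanning the quotient, in the corresponding order. -/
  colsQ : List ℕ
  /-- The short roots. -/
  short : List ℕ
  /-- The symmetry of the diagram on the roots. -/
  bar : List ℕ

namespace Cert

variable (C : Cert) (D : ChevalleyDatum) (p : ℕ)

/-- The dimension of the ideal. -/
def n : ℕ := C.colsI.length

/-- The position of a basis vector of the ideal. -/
def cI (i : ℕ) : ℕ := C.colsI.getD i 0

/-- The position of a basis vector of the quotient. -/
def cQ (i : ℕ) : ℕ := C.colsQ.getD i 0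

/-- Whether a root is short. -/
def isShort (r : ℕ) : Bool := C.short.contains r

/-- The image of a root. -/
def br (r : ℕ) : ℕ := C.bar.getD r r

/-- The exponent attached to a root. -/
def lam (m r : ℕ) : ℕ := if C.isShort r then p ^ (m + 1) else p ^ m

/-- The level of a position. -/
def lev (k : ℕ) : ℕ :=
  if k < D.rank then D.nroots / 2
  else if k - D.rank < D.nroots / 2 then k - D.rank else k - D.rank + 1

/-- Whether a list of terms has degree at most `p` and vanishes modulo `p`. -/
def chkZero (L : List (ℕ × ℤ)) : Bool :=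
  L.all (fun e => decide (e.1 ≤ p)) && (List.range (p + 1)).all fun k => coeffT L k % (p : ℤ) == 0

/-- The relation between the terms of a root on the ideal and of its image on the quotient. -/
def chkRel (s : Bool) (L M : List (ℕ × ℤ)) : Bool :=
  L.all (fun e => decide (e.1 ≤ p)) && M.all (fun e => decide (e.1 ≤ p)) &&
  if s then (List.range (p + 1)).all fun k => coeffT M k % (p : ℤ) == coeffT L k % (p : ℤ)
  else (List.range (p + 1)).all fun k =>
    (coeffT M k % (p : ℤ) == if k = 0 then coeffT L 0 % (p : ℤ)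
      else if k = p then coeffT L 1 % (p : ℤ) else 0) &&
    (decide (k < 2) || coeffT L k % (p : ℤ) == 0)

/-- The conditions on one root. -/
def chkRoot (r : ℕ) : Bool :=
  decide (C.br r < D.nroots ∧ C.br (C.br r) = r) && C.isShort (C.br r) != C.isShort r &&
  (List.range C.n).all fun i => (List.range C.n).all fun j =>
    chkZero p (pTerms D r (C.cQ i) (C.cI j)) &&
    chkRel p (C.isShort r) (pTerms D r (C.cI i) (C.cI j)) (pTerms D (C.br r) (C.cQ i) (C.cQ j))

/-- A negative root element is visible above the diagonal on the quotient. -/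
def chkNeg (q : ℕ) : Bool :=
  (List.range C.n).any fun i => (List.range C.n).any fun j =>
    decide (lev D (C.cQ i) < lev D (C.cQ j)) &&
    ((pTerms D q (C.cQ i) (C.cQ j)).all fun e => decide (e.1 ≤ p)) &&
    (List.range (p + 1)).any fun k => decide (k ≠ 0) &&
      coeffT (pTerms D q (C.cQ i) (C.cQ j)) k % (p : ℤ) != 0 &&
      (List.range (p + 1)).all fun l =>
        decide (l = k) || coeffT (pTerms D q (C.cQ i) (C.cQ j)) l % (p : ℤ) == 0

/-- The positions split into the ideal and the quotient. -/
def chkShape : Bool :=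
  decide (C.colsQ.length = C.n ∧ (C.colsI ++ C.colsQ).Nodup ∧
    (C.colsI ++ C.colsQ).length = D.rank + D.nroots) &&
  (C.colsI ++ C.colsQ).all fun k => decide (k < D.rank + D.nroots)

/-- The tables are correct. -/
structure Valid : Prop where
  two_le : 2 ≤ p
  shape : C.chkShape D = true
  root : ∀ r < D.nroots, C.chkRoot D p r = true
  neg : ∀ q < D.nroots / 2, C.chkNeg D p q = true

end Cert

variable {D : ChevalleyDatum} {p : ℕ} {C : Cert} {F : Type*} [Field F]

/-- The coordinate at a position. -/
def pos (D : ChevalleyDatum) (k : ℕ) (hk : k < D.rank + D.nroots) : D.Idx :=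
  if h : k < D.rank then Sum.inl ⟨k, h⟩ else Sum.inr ⟨k - D.rank, by omega⟩

theorem idxNat_pos (k : ℕ) (hk : k < D.rank + D.nroots) : idxNat (pos D k hk) = k := by
  unfold pos
  split
  · rfl
  · show D.rank + (k - D.rank) = k
    omega

theorem rootLevel_pos (k : ℕ) (hk : k < D.rank + D.nroots) :
    rootLevel D (pos D k hk) = Cert.lev D k := by
  unfold pos Cert.lev
  split <;> rfl

variable (hC : C.Valid D p)
include hC

theorem colsQ_length : C.colsQ.length = C.n := by
  have h := hC.shape
  simp only [Cert.chkShape, Bool.and_eq_true, decide_eq_true_eq] at h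
  exact h.1.1

theorem cI_lt {i : ℕ} (hi : i < C.n) : C.cI i < D.rank + D.nroots := by
  have h := hC.shape
  simp only [Cert.chkShape, Bool.and_eq_true, decide_eq_true_eq, List.all_eq_true] at h
  refine h.2 _ (List.mem_append_left _ ?_)
  rw [Cert.cI, List.getD_eq_getElem _ _ (show i < C.colsI.length from hi)]
  exact List.getElem_mem _

theorem cQ_lt {i : ℕ} (hi : i < C.n) : C.cQ i < D.rank + D.nroots := by
  have h := hC.shape
  simp only [Cert.chkShape, Bool.and_eq_true, decide_eq_true_eq, List.all_eq_true] at h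
  refine h.2 _ (List.mem_append_right _ ?_)
  rw [Cert.cQ, List.getD_eq_getElem _ _ (show i < C.colsQ.length by omega)]
  exact List.getElem_mem _

/-- The coordinates of the ideal. -/
def iI (i : Fin C.n) : D.Idx := pos D (C.cI i) (cI_lt hC i.2)

/-- The coordinates of the quotient. -/
def iQ (i : Fin C.n) : D.Idx := pos D (C.cQ i) (cQ_lt hC i.2)

/-- The two sides. -/
def side : Fin C.n ⊕ Fin C.n → D.Idx := Sum.elim (iI hC) (iQ hC)

theorem side_bijective : Function.Bijective (side hC) := by
  have hs := hC.shape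
  simp only [Cert.chkShape, Bool.and_eq_true, decide_eq_true_eq, List.all_eq_true] at hs
  obtain ⟨⟨hl, hnd, hlen⟩, -⟩ := hs
  refine (Fintype.bijective_iff_injective_and_card _).2 ⟨?_, ?_⟩
  · let f : Fin C.n ⊕ Fin C.n → ℕ := Sum.elim (fun i => i.1) fun i => C.n + i.1
    have key : ∀ x, f x < (C.colsI ++ C.colsQ).length ∧
        idxNat (side hC x) = (C.colsI ++ C.colsQ).getD (f x) 0 := by
      have hn : C.colsI.length = C.n := rfl
      intro x
      rcases x with i | i <;> have := i.2 <;>
        simp only [f, side, Sum.elim_inl, Sum.elim_inr, iI, iQ, idxNat_pos, Cert.cI, Cert.cQ] <;>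
        refine ⟨by rw [List.length_append]; omega, ?_⟩
      · rw [List.getD_append _ _ _ _ (by omega)]
      · rw [List.getD_append_right _ _ _ _ (by omega)]
        congr 1
        omega
    intro x y h
    have e := congrArg idxNat h
    rw [(key x).2, (key y).2, List.getD_eq_getElem _ _ (key x).1,
      List.getD_eq_getElem _ _ (key y).1] at e
    have e' := hnd.getElem_inj_iff.1 e
    rcases x with i | i <;> rcases y with j | j <;> simp only [f, Sum.elim_inl, Sum.elim_inr] at e' <;>
      have := i.2 <;> have := j.2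
    · exact congrArg _ (Fin.ext e')
    · omega
    · omega
    · exact congrArg _ (Fin.ext (by omega))
  · simp only [Fintype.card_sum, Fintype.card_fin]
    rw [List.length_append, hl] at hlen
    exact hlen

theorem sum_split {β : Type*} [AddCommMonoid β] (f : D.Idx → β) :
    ∑ x, f x = ∑ i, f (iI hC i) + ∑ i, f (iQ hC i) := by
  rw [← (side_bijective hC).sum_comp f, Fintype.sum_sum_type]
  rfl

/-- The block on the ideal. -/
def phiI (g : Matrix D.Idx D.Idx F) : Matrix (Fin C.n) (Fin C.n) F := g.submatrix (iI hC) (iI hC)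

/-- The block on the quotient. -/
def phiQ (g : Matrix D.Idx D.Idx F) : Matrix (Fin C.n) (Fin C.n) F := g.submatrix (iQ hC) (iQ hC)

/-- The ideal is preserved. -/
def Pres (g : Matrix D.Idx D.Idx F) : Prop := ∀ i j, g (iQ hC i) (iI hC j) = 0

theorem pres_one : Pres hC (1 : Matrix D.Idx D.Idx F) := by
  intro i j
  refine Matrix.one_apply_ne fun h => ?_
  have := (side_bijective hC).1 (show side hC (Sum.inr i) = side hC (Sum.inl j) from h)
  simp at this

theorem Pres.mul {g h : Matrix D.Idx D.Idx F} (hg : Pres hC g) (hh : Pres hC h) :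
    Pres hC (g * h) := by
  intro i j
  rw [Matrix.mul_apply, sum_split hC]
  simp [hg _ _, hh _ _]

theorem phiI_mul {g h : Matrix D.Idx D.Idx F} (hh : Pres hC h) :
    phiI hC (g * h) = phiI hC g * phiI hC h := by
  ext i j
  rw [phiI, Matrix.submatrix_apply, Matrix.mul_apply, sum_split hC, Matrix.mul_apply]
  simp [phiI, hh _ _]

theorem phiQ_mul {g h : Matrix D.Idx D.Idx F} (hg : Pres hC g) :
    phiQ hC (g * h) = phiQ hC g * phiQ hC h := by
  ext i j
  rw [phiQ, Matrix.submatrix_apply, Matrix.mul_apply, sum_split hC, Matrix.mul_apply]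
  simp [phiQ, hg _ _]

theorem phiI_one : phiI hC (1 : Matrix D.Idx D.Idx F) = 1 :=
  Matrix.submatrix_one _ fun _ _ h => Sum.inl.inj
    ((side_bijective hC).1 (show side hC (Sum.inl _) = side hC (Sum.inl _) from h))

theorem phiQ_one : phiQ hC (1 : Matrix D.Idx D.Idx F) = 1 :=
  Matrix.submatrix_one _ fun _ _ h => Sum.inr.inj
    ((side_bijective hC).1 (show side hC (Sum.inr _) = side hC (Sum.inr _) from h))

omit hC in
theorem x_pos {r : ℕ} (hr : r < D.nroots) (t : F) (i j : ℕ) (hi : i < D.rank + D.nroots)
    (hj : j < D.rank + D.nroots) :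
    D.x F r t (pos D i hi) (pos D j hj) = evalT (pTerms D r i j) t := by
  rw [x_apply hr, idxNat_pos, idxNat_pos]

theorem br_lt {r : ℕ} (hr : r < D.nroots) : C.br r < D.nroots := by
  have h := hC.root r hr
  simp only [Cert.chkRoot, Bool.and_eq_true, decide_eq_true_eq] at h
  exact h.1.1.1

theorem br_br {r : ℕ} (hr : r < D.nroots) : C.br (C.br r) = r := by
  have h := hC.root r hr
  simp only [Cert.chkRoot, Bool.and_eq_true, decide_eq_true_eq] at h
  exact h.1.1.2

theorem lam_mul_lam {r : ℕ} (hr : r < D.nroots) :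
    C.lam p 0 r * C.lam p 0 (C.br r) = p := by
  have h := hC.root r hr
  simp only [Cert.chkRoot, Bool.and_eq_true] at h
  have h2 := h.1.2
  simp only [Cert.lam]
  cases hs : C.isShort r <;> cases hs' : C.isShort (C.br r) <;> simp [hs, hs'] at h2 ⊢

section charp

variable [CharP F p]

omit hC in
theorem cast_eq_of_mod {a b : ℤ} (h : a % (p : ℤ) = b % (p : ℤ)) : (a : F) = (b : F) := by
  rw [← sub_eq_zero, ← Int.cast_sub, CharP.intCast_eq_zero_iff F p]
  exact Int.ModEq.dvd (show b ≡ a [ZMOD (p : ℤ)] from h.symm)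

omit hC in
theorem evalT_eq_sum' {L : List (ℕ × ℤ)} (h : L.all (fun e => decide (e.1 ≤ p)) = true) (t : F) :
    evalT L t = ∑ k ∈ Finset.range (p + 1), (coeffT L k : F) * t ^ k :=
  evalT_eq_sum _ t fun e he => Nat.lt_succ_of_le (of_decide_eq_true (List.all_eq_true.1 h e he))

theorem pres_x (r : ℕ) (t : F) : Pres hC (D.x F r t) := by
  by_cases hr : r < D.nroots
  · intro i j
    have h := hC.root r hr
    simp only [Cert.chkRoot, Bool.and_eq_true, List.all_eq_true, List.mem_range] at h
    have h2 := (h.2 i.1 i.2 j.1 j.2).1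
    simp only [Cert.chkZero, Bool.and_eq_true] at h2
    rw [iQ, iI, x_pos hr, evalT_eq_sum' h2.1]
    refine Finset.sum_eq_zero fun k hk => ?_
    have := List.all_eq_true.1 h2.2 k (List.mem_range.2 (Finset.mem_range.1 hk))
    rw [cast_eq_of_mod (F := F) (p := p) (b := 0) (by simpa using beq_iff_eq.1 this)]
    simp
  · rw [show D.x F r t = 1 from dif_neg hr]; exact pres_one hC

variable (hG : Good D)

omit hC in
include hG in
theorem group_induction {P : GL D.Idx F → Prop} (h1 : P 1)
    (hmul : ∀ r t g, r < D.nroots → g ∈ D.group F → P g → P (xe hG r t * g))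
    {g : GL D.Idx F} (hg : g ∈ D.group F) : P g := by
  induction hg using Subgroup.closure_induction_left with
  | one => exact h1
  | mul_left x hx y hy ih =>
    obtain ⟨r, t, hx⟩ := hx
    obtain rfl : x = xe hG r.1 t := eq_xe hG (by rw [hx, ChevalleyDatum.x, dif_pos r.2])
    exact hmul r.1 t y r.2 hy ih
  | inv_mul_cancel x hx y hy ih =>
    obtain ⟨r, t, hx⟩ := hx
    obtain rfl : x = xe hG r.1 t := eq_xe hG (by rw [hx, ChevalleyDatum.x, dif_pos r.2])
    rw [xe_inv hG r.2]
    exact hmul r.1 (-t) y r.2 hy ih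

include hG in
theorem pres_of_mem {g : GL D.Idx F} (hg : g ∈ D.group F) :
    Pres hC (g : Matrix D.Idx D.Idx F) :=
  group_induction hG (P := fun g : GL D.Idx F => Pres hC (g : Matrix D.Idx D.Idx F))
    (pres_one hC) (fun r t _ _ _ ih => (pres_x hC r t).mul hC ih) hg

omit hC in
theorem sum_two {k0 : ℕ} (hk0 : k0 ∈ Finset.range (p + 1)) (hne : k0 ≠ 0) (c : ℕ → ℤ)
    (h : ∀ k < p + 1, k ≠ 0 → k ≠ k0 → c k % (p : ℤ) = 0) (x : F) :
    ∑ k ∈ Finset.range (p + 1), (c k : F) * x ^ k = (c 0 : F) + (c k0 : F) * x ^ k0 := by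
  have h0 : (0 : ℕ) ∈ Finset.range (p + 1) := by simp
  rw [← Finset.sum_subset (s₁ := ({0, k0} : Finset ℕ))]
  · rw [Finset.sum_pair (Ne.symm hne), pow_zero, mul_one]
  · simp [Finset.insert_subset_iff, h0, hk0]
  · intro k hk hk'
    simp only [Finset.mem_insert, Finset.mem_singleton, not_or] at hk'
    rw [cast_eq_of_mod (F := F) (p := p) (b := 0)
      (by simpa using h k (Finset.mem_range.1 hk) hk'.1 hk'.2)]
    simp

variable [Fact p.Prime]

/-- The semilinear image of the block on the ideal. -/
def psi (m : ℕ) (g : Matrix D.Idx D.Idx F) : Matrix (Fin C.n) (Fin C.n) F :=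
  (phiI hC g).map (iterateFrobenius F p (m + 1))

theorem psi_one (m : ℕ) : psi (p := p) hC m (1 : Matrix D.Idx D.Idx F) = 1 := by
  rw [psi, phiI_one, Matrix.map_one _ (map_zero _) (map_one _)]

theorem psi_mul (m : ℕ) {g h : Matrix D.Idx D.Idx F} (hh : Pres hC h) :
    psi (p := p) hC m (g * h) = psi (p := p) hC m g * psi (p := p) hC m h := by
  rw [psi, phiI_mul hC hh, Matrix.map_mul]
  rfl

/-- The images of the root elements. -/
theorem phiQ_x_br (m : ℕ) {r : ℕ} (hr : r < D.nroots) (t : F) :
    phiQ hC (D.x F (C.br r) (t ^ C.lam p m r)) = psi (p := p) hC m (D.x F r t) := by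
  ext i j
  have h := hC.root r hr
  simp only [Cert.chkRoot, Bool.and_eq_true, List.all_eq_true, List.mem_range] at h
  have h2 := (h.2 i.1 i.2 j.1 j.2).2
  simp only [Cert.chkRel, Bool.and_eq_true] at h2
  obtain ⟨⟨hdL, hdM⟩, h3⟩ := h2
  rw [phiQ, Matrix.submatrix_apply, psi, Matrix.map_apply, phiI, Matrix.submatrix_apply, iQ, iQ,
    iI, iI, x_pos (br_lt hC hr), x_pos hr, evalT_eq_sum' hdL, evalT_eq_sum' hdM]
  generalize coeffT (pTerms D (C.br r) (C.cQ i.1) (C.cQ j.1)) = cQ at h3 ⊢
  generalize coeffT (pTerms D r (C.cI i.1) (C.cI j.1)) = cI at h3 ⊢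
  rw [Cert.lam]
  cases hs : C.isShort r
  · simp only [hs, Bool.false_eq_true, if_false, List.all_eq_true, List.mem_range,
      Bool.and_eq_true, beq_iff_eq, Bool.or_eq_true, decide_eq_true_eq] at h3 ⊢
    have hp := hC.two_le
    rw [sum_two (Finset.mem_range.2 (Nat.lt_succ_self p)) (by omega) cQ
        (fun k hk h0 hkp => by rw [(h3 k hk).1, if_neg h0, if_neg hkp]),
      sum_two (Finset.mem_range.2 (show 1 < p + 1 by omega)) one_ne_zero cI
        (fun k hk h0 h1 => (h3 k hk).2.resolve_left (by omega))]
    have e0 := (h3 0 (by omega)).1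
    have ep := (h3 p (by omega)).1
    rw [if_pos rfl] at e0
    rw [if_neg (by omega), if_pos rfl] at ep
    rw [cast_eq_of_mod (F := F) e0, cast_eq_of_mod (F := F) ep, map_add,
      map_mul, map_intCast, map_intCast, iterateFrobenius_def, pow_one, ← pow_mul, pow_succ]
  · simp only [hs, if_true, List.all_eq_true, List.mem_range, beq_iff_eq] at h3 ⊢
    rw [map_sum]
    refine Finset.sum_congr rfl fun k hk => ?_
    rw [cast_eq_of_mod (F := F) (h3 k (Finset.mem_range.1 hk)), map_mul, map_intCast, map_pow,
      iterateFrobenius_def]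

end charp

end Cfsg.Agent.Twisted.Iso
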