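/-
The exceptional endomorphism attached to an exceptional isogeny: the action on the quotient is
faithful and the semilinear action on the ideal lifts through it; it squares to Frobenius.
-/
import Cfsg.Agent.Lib.Twisted.Iso.Blocks

set_option autoImplicit false

namespace Cfsg.Agent.Twisted.Iso

open Cfsg.Lie Matrix Chev BNSetup

variable {D : ChevalleyDatum} {p : ℕ} {C : Cert} {F : Type*} [Field F] [CharP F p]
  {tabs simps w0 : List ℕ}

theorem tri_B (hG : Good D) (hf : Facts D tabs simps) {g : GL D.Idx F}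
    (hg : g ∈ D.borelSubgroup F) : Tri F D (g : Matrix D.Idx D.Idx F) := by
  obtain ⟨u, hu, h, hh, rfl⟩ := borel_decomp hG hf hg
  obtain ⟨χ, hχ⟩ := tri_H hf hG hh
  rw [Units.val_mul, hχ]
  have := (tri_U hf hu).mul (tri_hdiag hf χ)
  simpa [Tri] using this

/-- The Frobenius endomorphism of the general linear group. -/
def frob (D : ChevalleyDatum) (F : Type*) [Field F] (p : ℕ) [Fact p.Prime] [CharP F p] (m : ℕ) :
    GL D.Idx F →* GL D.Idx F :=
  Units.map ((iterateFrobenius F p m).mapMatrix).toMonoidHom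

/-- What is needed of a datum with an exceptional isogeny. -/
structure Setup (D : ChevalleyDatum) (p : ℕ) (C : Cert) (tabs simps w0 : List ℕ) : Prop where
  good : Good D
  facts : Facts D tabs simps
  negTri : NegTri D
  longest : IsLongest D tabs w0
  valid : C.Valid D p

variable (S : Setup D p C tabs simps w0)
include S

/-- The action on the quotient, as a homomorphism. -/
def qHom : ↥(D.group F) →* Matrix (Fin C.n) (Fin C.n) F where
  toFun g := phiQ S.valid ((g : GL D.Idx F) : Matrix D.Idx D.Idx F)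
  map_one' := phiQ_one S.valid
  map_mul' g _ := phiQ_mul S.valid (pres_of_mem S.valid S.good g.2)

theorem qHom_tri {g : ↥(D.group F)} (hg : (g : GL D.Idx F) ∈ D.borelSubgroup F) :
    Raises (fun i => rootLevel D (iQ S.valid i)) 0 (qHom S g) :=
  fun i j h => tri_B S.good S.facts hg (iQ S.valid i) (iQ S.valid j) h

/-- A negative root element stays non-triangular on the quotient. -/
theorem eq_zero_of_tri {q : ℕ} (hq : q < D.nroots / 2) {s : F}
    (h : Raises (fun i => rootLevel D (iQ S.valid i)) 0 (phiQ S.valid (D.x F q s))) : s = 0 := by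
  have hc := S.valid.neg q hq
  simp only [Cert.chkNeg, List.any_eq_true, List.mem_range, Bool.and_eq_true, decide_eq_true_eq,
    bne_iff_ne] at hc
  obtain ⟨i, hi, j, hj, ⟨hlt, hd⟩, k, hk, ⟨hk0, hne⟩, ho⟩ := hc
  have e := h ⟨i, hi⟩ ⟨j, hj⟩ (by
    simp only [iQ, rootLevel_pos, Nat.add_zero]
    exact hlt)
  rw [phiQ, Matrix.submatrix_apply, iQ, iQ, x_pos (by omega), evalT_eq_sum' hd,
    Finset.sum_eq_single k] at e
  · rcases mul_eq_zero.1 e with e | e
    · rw [CharP.intCast_eq_zero_iff F p] at e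
      exact absurd (Int.emod_eq_zero_of_dvd e) hne
    · exact eq_zero_of_pow_eq_zero e
  · intro l hl hlk
    have := List.all_eq_true.1 ho l (List.mem_range.2 (Finset.mem_range.1 hl))
    simp only [Bool.or_eq_true, decide_eq_true_eq, hlk, false_or, beq_iff_eq] at this
    rw [cast_eq_of_mod (F := F) (p := p) (b := 0) (by simpa using this)]
    simp
  · intro h; exact absurd (Finset.mem_range.2 hk) h

theorem mem_borel_of_qHom {g : ↥(D.group F)} (hg : qHom S g = 1) :
    (g : GL D.Idx F) ∈ D.borelSubgroup F := by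
  have hG := S.good
  have hf := S.facts
  have ax := axioms (F := F) hG hf
  have hgd : (g : GL D.Idx F) ∈ (data hG F).grp := (data_grp (F := F) hG).symm ▸ g.2
  obtain ⟨l, hl⟩ := RootBN.Data.exists_cell ax hgd
  obtain ⟨n, hn, hσ, b, hb, c, hc, e⟩ := hl
  rw [data_B hG hf] at hb hc
  let b' : ↥(D.group F) := ⟨b, borel_le_group hG hf hb⟩
  let c' : ↥(D.group F) := ⟨c, borel_le_group hG hf hc⟩
  have hgn : ((b'⁻¹ * g * c'⁻¹ : ↥(D.group F)) : GL D.Idx F) = n := by
    simp [b', c', e, mul_assoc]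
  have hq : qHom S (b'⁻¹ * g * c'⁻¹) = qHom S (b'⁻¹ * c'⁻¹) := by
    rw [map_mul, map_mul, hg, mul_one, ← map_mul]
  have hgi : qHom S g⁻¹ = 1 := by
    have := congrArg (qHom S) (inv_mul_cancel g)
    rwa [map_mul, hg, mul_one, map_one] at this
  have hq' : qHom S (b'⁻¹ * g * c'⁻¹)⁻¹ = qHom S (c' * b') := by
    rw [_root_.mul_inv_rev, _root_.mul_inv_rev, inv_inv, inv_inv, map_mul, map_mul, hgi, one_mul,
      ← map_mul]
  refine data_B (F := F) hG hf ▸ ?_
  rw [e]
  refine Subgroup.mul_mem _ (Subgroup.mul_mem _ ?_ ?_) ?_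
  · rwa [data_B hG hf]
  swap
  · rwa [data_B hG hf]
  refine RootBN.Data.H_le_B (RootBN.Data.mem_H_of_pos_preserving ax hn hσ ?_)
  intro r hr
  by_contra hneg
  obtain ⟨s, hs⟩ := (mem_rootSubgroup hG ((data hG F).wl l r).2).1
    ((hσ r _).2 ((mem_rootSubgroup hG r.2).2 ⟨1, rfl⟩) :
      n * xe hG r.1 1 * n⁻¹ ∈ D.rootSubgroup F ((data hG F).wl l r).1)
  have hq0 : ((data hG F).wl l r).1 < D.nroots / 2 := by
    have h1 : ¬ (D.nroots / 2 ≤ ((data hG F).wl l r).1) := hneg
    omega
  have hx : xe hG r.1 (1 : F) ∈ D.borelSubgroup F :=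
    Subgroup.mem_sup_left (Subgroup.subset_closure ⟨r.1, 1, (pos_iff hf r.2).2 hr, rfl⟩)
  let x' : ↥(D.group F) := ⟨xe hG r.1 1, xe_mem_group hG r.2 1⟩
  have hs' : (((b'⁻¹ * g * c'⁻¹) * x' * (b'⁻¹ * g * c'⁻¹)⁻¹ : ↥(D.group F)) :
      GL D.Idx F) = xe hG ((data hG F).wl l r).1 s := by
    rw [← hs, Subgroup.coe_mul, Subgroup.coe_mul, Subgroup.coe_inv, hgn]
  have htri : Raises (fun i => rootLevel D (iQ S.valid i)) 0
      (qHom S ((b'⁻¹ * g * c'⁻¹) * x' * (b'⁻¹ * g * c'⁻¹)⁻¹)) := by
    rw [map_mul, map_mul, hq, hq', ← map_mul, ← map_mul]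
    refine qHom_tri S ?_
    simp only [Subgroup.coe_mul, Subgroup.coe_inv, b', c', x']
    exact Subgroup.mul_mem _ (Subgroup.mul_mem _ (Subgroup.mul_mem _ (Subgroup.inv_mem _ hb)
      (Subgroup.inv_mem _ hc)) hx) (Subgroup.mul_mem _ hc hb)
  have hz : s = 0 := by
    refine eq_zero_of_tri S hq0 ?_
    have he := congrArg (fun z : GL D.Idx F => phiQ S.valid (z : Matrix D.Idx D.Idx F)) hs'
    simp only [coe_xe] at he
    rw [← he]
    exact htri
  rw [hz, xe_zero hG ((data hG F).wl l r).2, conj_eq_one_iff] at hs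
  exact xe_ne_one hG hf r.2 one_ne_zero hs

theorem qHom_injective : Function.Injective (qHom (F := F) S) := by
  let K : Subgroup ↥(D.group F) :=
    { carrier := {g | qHom S g = 1}
      one_mem' := map_one _
      mul_mem' := fun {a b} ha hb => by
        simp only [Set.mem_ofPred_eq] at ha hb ⊢
        rw [map_mul, ha, hb, mul_one]
      inv_mem' := fun {a} ha => by
        simp only [Set.mem_ofPred_eq] at ha ⊢
        have := congrArg (qHom S) (inv_mul_cancel a)
        rwa [map_mul, ha, mul_one, map_one] at this }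
  have hKn : K.Normal := ⟨fun g hg z => by
    show qHom S (z * g * z⁻¹) = 1
    rw [map_mul, map_mul, show qHom S g = 1 from hg, mul_one, ← map_mul, mul_inv_cancel, map_one]⟩
  have hK : K = ⊥ := by
    rw [eq_bot_iff, ← normalCore_borel (F := F) S.good S.facts S.negTri S.longest]
    refine Subgroup.normal_le_normalCore.2 fun g hg => ?_
    rw [Subgroup.mem_subgroupOf]
    exact mem_borel_of_qHom S hg
  intro a b h
  have : a * b⁻¹ ∈ K := by
    show qHom S (a * b⁻¹) = 1
    rw [map_mul, h, ← map_mul, mul_inv_cancel, map_one]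
  rw [hK, Subgroup.mem_bot] at this
  exact mul_inv_eq_one.1 this

variable [Fact p.Prime]

/-- The semilinear action on the ideal, as a homomorphism. -/
def iHom (m : ℕ) : ↥(D.group F) →* Matrix (Fin C.n) (Fin C.n) F where
  toFun g := psi (p := p) S.valid m ((g : GL D.Idx F) : Matrix D.Idx D.Idx F)
  map_one' := psi_one S.valid m
  map_mul' _ h := psi_mul S.valid m (pres_of_mem S.valid S.good h.2)

omit [CharP F p] [Fact p.Prime] in
/-- The root element in the Chevalley group. -/
def xg (r : ℕ) (hr : r < D.nroots) (t : F) : ↥(D.group F) :=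
  ⟨xe S.good r t, xe_mem_group S.good hr t⟩

/-- The preimage exists. -/
theorem exists_endo (m : ℕ) (g : ↥(D.group F)) : ∃ h : ↥(D.group F), qHom S h = iHom S m g := by
  obtain ⟨g, hg⟩ := g
  refine group_induction S.good (P := fun g : GL D.Idx F => ∀ hg : g ∈ D.group F,
    ∃ h : ↥(D.group F), qHom S h = iHom S m ⟨g, hg⟩) ?_ ?_ hg hg
  · intro _; exact ⟨1, by rw [map_one]; exact (map_one (iHom S m)).symm⟩
  · intro r t g hr hg ih _
    obtain ⟨h, hh⟩ := ih hg
    refine ⟨xg S (C.br r) (br_lt S.valid hr) (t ^ C.lam p m r) * h, ?_⟩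
    rw [map_mul, hh, show (⟨xe S.good r t * g, _⟩ : ↥(D.group F)) = xg S r hr t * ⟨g, hg⟩ from rfl,
      map_mul]
    congr 1
    exact phiQ_x_br S.valid m hr t

/-- The exceptional endomorphism. -/
noncomputable def endo (m : ℕ) : ↥(D.group F) →* ↥(D.group F) where
  toFun g := (exists_endo S m g).choose
  map_one' := qHom_injective S ((exists_endo S m 1).choose_spec.trans
    ((map_one (iHom S m)).trans (map_one (qHom S)).symm))
  map_mul' a b := qHom_injective S ((exists_endo S m (a * b)).choose_spec.trans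
    ((map_mul (iHom S m) a b).trans ((congrArg₂ (· * ·) (exists_endo S m a).choose_spec.symm
      (exists_endo S m b).choose_spec.symm).trans (map_mul (qHom S) _ _).symm)))

theorem qHom_endo (m : ℕ) (g : ↥(D.group F)) : qHom S (endo S m g) = iHom S m g :=
  (exists_endo S m g).choose_spec

theorem endo_xg (m : ℕ) {r : ℕ} (hr : r < D.nroots) (t : F) :
    endo S m (xg S r hr t) = xg S (C.br r) (br_lt S.valid hr) (t ^ C.lam p m r) :=
  qHom_injective S (by rw [qHom_endo]; exact (phiQ_x_br S.valid m hr t).symm)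

/-- The endomorphism on an element given by its matrix. -/
theorem endo_of_coe (m : ℕ) {g : ↥(D.group F)} {r : ℕ} (hr : r < D.nroots) {t : F}
    (hg : ((g : GL D.Idx F) : Matrix D.Idx D.Idx F) = D.x F r t) :
    ((endo S m g : GL D.Idx F) : Matrix D.Idx D.Idx F) = D.x F (C.br r) (t ^ C.lam p m r) := by
  obtain rfl : g = xg S r hr t := Subtype.ext (Units.ext hg)
  rw [endo_xg]
  rfl

theorem frob_xe {r : ℕ} (hr : r < D.nroots) (t : F) :
    frob D F p 1 (xe S.good r t) = xe S.good r (t ^ p) := by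
  apply Units.ext
  ext a b
  show iterateFrobenius F p 1 (D.x F r t a b) = D.x F r (t ^ p) a b
  have h : t ^ p = iterateFrobenius F p 1 t := by rw [iterateFrobenius_def, pow_one]
  rw [x_apply hr, x_apply hr, h]
  generalize pTerms D r (idxNat a) (idxNat b) = L
  induction L with
  | nil => simp [evalT]
  | cons e L ih =>
    simp only [evalT, List.map_cons, List.sum_cons, map_add, map_mul, map_intCast, map_pow] at ih ⊢
    rw [ih]

theorem frob_injective : Function.Injective (frob D F p 1) := fun _ _ h => by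
  apply Units.ext
  exact Matrix.map_injective (iterateFrobenius F p 1).injective (congrArg Units.val h)

theorem endo_endo (g : ↥(D.group F)) :
    ((endo S 0 (endo S 0 g) : ↥(D.group F)) : GL D.Idx F) = frob D F p 1 g := by
  obtain ⟨g, hg⟩ := g
  refine group_induction S.good (P := fun g : GL D.Idx F => ∀ hg : g ∈ D.group F,
    ((endo S 0 (endo S 0 ⟨g, hg⟩) : ↥(D.group F)) : GL D.Idx F) = frob D F p 1 g) ?_ ?_ hg hg
  · intro h
    rw [show (⟨1, h⟩ : ↥(D.group F)) = 1 from rfl, map_one, map_one, map_one]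
    rfl
  · intro r t g hr hg ih h
    rw [show (⟨xe S.good r t * g, h⟩ : ↥(D.group F)) = xg S r hr t * ⟨g, hg⟩ from rfl, map_mul,
      map_mul, Subgroup.coe_mul, ih hg, endo_xg, endo_xg, map_mul, frob_xe S hr]
    congr 1
    show xe S.good (C.br (C.br r)) ((t ^ C.lam p 0 r) ^ C.lam p 0 (C.br r)) = xe S.good r (t ^ p)
    rw [br_br S.valid hr, ← pow_mul, lam_mul_lam S.valid hr]

theorem endo_injective : Function.Injective (endo (F := F) S 0) := fun a b h => by
  apply Subtype.ext
  apply frob_injective S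
  rw [← endo_endo, ← endo_endo, h]

theorem endo_bijective (hperf : ∀ x : F, ∃ y : F, y ^ p = x) :
    Function.Bijective (endo (F := F) S 0) := by
  refine ⟨endo_injective S, ?_⟩
  intro g
  obtain ⟨g, hg⟩ := g
  refine group_induction S.good (P := fun g : GL D.Idx F => ∀ hg : g ∈ D.group F,
    ∃ a, endo S 0 a = ⟨g, hg⟩) ?_ ?_ hg hg
  · exact fun h => ⟨1, map_one _⟩
  · intro r t g hr hg ih h
    obtain ⟨a, ha⟩ := ih hg
    obtain ⟨y, hy⟩ : ∃ y : F, y ^ C.lam p 0 (C.br r) = t := by
      unfold Cert.lam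
      split
      · simpa using hperf t
      · exact ⟨t, by simp⟩
    refine ⟨xg S (C.br r) (br_lt S.valid hr) y * a, ?_⟩
    rw [map_mul, endo_xg, ha]
    apply Subtype.ext
    show xe S.good (C.br (C.br r)) (y ^ C.lam p 0 (C.br r)) * g = xe S.good r t * g
    rw [br_br S.valid hr, hy]

end Cfsg.Agent.Twisted.Iso
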