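/-
The tables of the exceptional isogeny of F₄ in characteristic 2.
-/
import Cfsg.Agent.Lib.Twisted.Iso.Endo
import Cfsg.Agent.Lib.Chev.CheckF4

set_option autoImplicit false

namespace Cfsg.Agent.Twisted.Iso

open Cfsg.Lie Chev BNSetup

/-- The tables for F₄. -/
def certF4 : Cert where
  colsI := [0, 1, 7, 11, 12, 13, 14, 15, 16, 17, 18, 22, 23, 24, 31, 32, 33, 37, 38, 39, 40, 41, 42, 43, 44, 48]
  colsQ := [3, 2, 4, 5, 6, 8, 19, 9, 20, 25, 27, 10, 21, 26, 29, 34, 45, 28, 30, 35, 46, 36, 47, 49, 50, 51]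
  short := [3, 7, 8, 9, 10, 11, 12, 13, 14, 18, 19, 20, 27, 28, 29, 33, 34, 35, 36, 37, 38, 39, 40, 44]
  bar := [3, 7, 8, 0, 9, 11, 18, 1, 2, 4, 15, 5, 16, 21, 23, 10, 12, 19, 6, 17, 22, 13, 20, 14, 33, 27,
    34, 25, 30, 41, 28, 35, 37, 24, 26, 31, 42, 32, 43, 45, 46, 29, 36, 38, 47, 39, 40, 44]

theorem validF4_shape : certF4.chkShape chevF4 = true := by decide +kernel

theorem validF4_neg : ∀ q < 24, certF4.chkNeg chevF4 2 q = true := by decide +kernel

theorem validF4_root0 : ∀ r < 16, certF4.chkRoot chevF4 2 r = true := by decide +kernel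

theorem validF4_root1 : ∀ r < 16, certF4.chkRoot chevF4 2 (16 + r) = true := by decide +kernel

theorem validF4_root2 : ∀ r < 16, certF4.chkRoot chevF4 2 (32 + r) = true := by decide +kernel

theorem validF4 : certF4.Valid chevF4 2 where
  two_le := le_rfl
  shape := validF4_shape
  root := fun r hr => by
    change r < 48 at hr
    rcases Nat.lt_or_ge r 16 with h | h
    · exact validF4_root0 r h
    · rcases Nat.lt_or_ge r 32 with h' | h'
      · simpa [show 16 + (r - 16) = r by omega] using validF4_root1 (r - 16) (by omega)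
      · simpa [show 32 + (r - 32) = r by omega] using validF4_root2 (r - 32) (by omega)
  neg := validF4_neg

theorem setupF4 : Setup chevF4 2 certF4 WeylTab.tabsF4 WeylTab.simpsF4
    [3, 2, 1, 2, 0, 1, 2, 3, 2, 1, 2, 0, 1, 2, 3, 2, 1, 2, 0, 1, 2, 0, 1, 0] :=
  ⟨Chev.F4.good, facts_chevF4, negTri_chevF4, isLongest_chevF4, validF4⟩

end Cfsg.Agent.Twisted.Iso
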