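/-
The tables of the exceptional isogeny of B₂ in characteristic 2.
-/
import Cfsg.Agent.Lib.Twisted.Iso.Endo
import Cfsg.Agent.Lib.Chev.CheckB2

set_option autoImplicit false

namespace Cfsg.Agent.Twisted.Iso

open Cfsg.Lie Chev BNSetup

/-- The tables for B₂. -/
def certB2 : Cert where
  colsI := [0, 3, 4, 7, 8]
  colsQ := [1, 2, 5, 6, 9]
  short := [1, 2, 5, 6]
  bar := [1, 0, 3, 2, 5, 4, 7, 6]

theorem validB2 : certB2.Valid chevB2 2 where
  two_le := le_rfl
  shape := by decide +kernel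
  root := by decide +kernel
  neg := by decide +kernel

theorem setupB2 : Setup chevB2 2 certB2 WeylTab.tabsB2 WeylTab.simpsB2 [1, 0, 1, 0] :=
  ⟨Chev.B2.good, facts_chevB2, negTri_chevB2, isLongest_chevB2, validB2⟩

end Cfsg.Agent.Twisted.Iso
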